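import Groth.Agent.L22.BlowUp
import Groth.Agent.L22.FlatPullback
import Mathlib.AlgebraicGeometry.AffineScheme

/-! Effective Cartier ideals: locality, generators and pullback to affine charts. -/

set_option autoImplicit false

universe u

open CategoryTheory CategoryTheory.Limits AlgebraicGeometry TopologicalSpace Opposite

namespace Groth.L13.BU

open Groth.L22

variable {X Y : Scheme.{u}}

/-- generators of effective Cartier ideals are non zero divisors -/
theorem nzd_of_span {J : X.IdealSheafData} (hJ : BlowUp.IsEffCartierIdeal J) (V : X.affineOpens) (t : Γ(X, V.1))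
    (ht : J.ideal V = Ideal.span {t}) : t ∈ nonZeroDivisors Γ(X, V.1) := by
  rw [mem_nonZeroDivisors_iff_right]
  intro s hs
  refine TopCat.Presheaf.section_ext X.sheaf V.1 s 0 fun x hx => ?_
  change X.presheaf.germ V.1 x hx s = X.presheaf.germ V.1 x hx 0
  rw [map_zero]
  obtain ⟨U, hxU, e, -, -, hU⟩ := Ideals.exists_generator hJ x
  obtain ⟨_, ⟨W, hW, rfl⟩, hxW, hWle⟩ := X.isBasis_affineOpens.exists_subset_of_mem_open
    (show x ∈ U.1 ⊓ V.1 from ⟨hxU, hx⟩) (U.1 ⊓ V.1).2
  have hWV : W ≤ V.1 := fun y hy => (hWle hy).2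
  obtain ⟨he, heW⟩ := hU ⟨W, hW⟩ fun y hy => (hWle hy).1
  have h1 : X.presheaf.map (homOfLE hWV).op t ∈ J.ideal ⟨W, hW⟩ ∧
      J.ideal ⟨W, hW⟩ = Ideal.span {X.presheaf.map (homOfLE hWV).op t} := by
    have := Scheme.IdealSheafData.map_ideal J (U := ⟨W, hW⟩) (V := V) hWV
    rw [ht, Ideal.map_span, Set.image_singleton] at this
    exact ⟨this ▸ Ideal.mem_span_singleton_self _, this.symm⟩
  obtain ⟨r, hr⟩ : X.presheaf.map (homOfLE hWV).op t ∣ X.presheaf.map (homOfLE (show W ≤ U.1 from fun y hy => (hWle hy).1)).op e := by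
    rw [← Ideal.mem_span_singleton, ← h1.2, heW]
    exact Ideal.mem_span_singleton_self _
  have hzero : X.presheaf.map (homOfLE hWV).op s = 0 := by
    refine he.2 _ ?_
    rw [hr, ← mul_assoc, ← map_mul, hs, map_zero, zero_mul]
  have := congrArg (X.presheaf.germ W x hxW) hzero
  rwa [map_zero, TopCat.Presheaf.germ_res_apply] at this

/-- effective Cartier ideals may be checked on an open cover -/
theorem isEffCartier_of_cover {J : X.IdealSheafData}
    (h : ∀ x : X, ∃ (Y : Scheme.{u}) (j : Y ⟶ X) (_ : IsOpenImmersion j), x ∈ Set.range j ∧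
      BlowUp.IsEffCartierIdeal (J.comap j)) : BlowUp.IsEffCartierIdeal J := by
  intro x
  obtain ⟨Y, j, hj, ⟨y, rfl⟩, hY⟩ := h x
  obtain ⟨U, hyU, t, ht, htU⟩ := hY y
  refine ⟨⟨j ''ᵁ U.1, U.2.image_of_isOpenImmersion j⟩, ⟨y, hyU, rfl⟩, (j.appIso U.1).inv t, ?_, ?_⟩
  · rw [mem_nonZeroDivisors_iff_right]
    intro s hs
    let e := (j.appIso U.1).commRingCatIsoToRingEquiv
    refine e.map_eq_zero_iff.1 (ht.2 _ ?_)
    have h1 := congrArg e hs
    rw [map_mul, map_zero] at h1
    rwa [show e ((j.appIso U.1).inv t) = t from e.apply_symm_apply t] at h1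
  · rw [Scheme.IdealSheafData.ideal_comap_of_isOpenImmersion] at htU
    have h1 := congrArg (Ideal.map (j.appIso U.1).inv.hom) htU
    rw [Ideal.map_span, Set.image_singleton] at h1
    refine Eq.trans ?_ h1
    exact (Ideal.map_comap_of_surjective _ (j.appIso U.1).symm.commRingCatIsoToRingEquiv.surjective _).symm

/-- the ring map of a morphism to an affine scheme on an affine open -/
noncomputable def affHom {A : Type u} [CommRing A] (g : Y ⟶ Spec (CommRingCat.of A)) {V : Y.Opens} (hV : IsAffineOpen V) :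
    A →+* Γ(Y, V) :=
  (Spec.preimage (hV.fromSpec ≫ g)).hom

theorem fromSpec_affHom {A : Type u} [CommRing A] (g : Y ⟶ Spec (CommRingCat.of A)) {V : Y.Opens} (hV : IsAffineOpen V) :
    hV.fromSpec ≫ g = Spec.map (CommRingCat.ofHom (affHom g hV)) :=
  (Spec.map_preimage _).symm

theorem ι_affHom {A : Type u} [CommRing A] (g : Y ⟶ Spec (CommRingCat.of A)) {V : Y.Opens} (hV : IsAffineOpen V) :
    V.ι ≫ g = hV.isoSpec.hom ≫ Spec.map (CommRingCat.ofHom (affHom g hV)) := by
  rw [← fromSpec_affHom, hV.isoSpec_hom_fromSpec_assoc]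

/-- the ideal of `Spec A` attached to an ideal of `A` -/
noncomputable abbrev idealOf {A : Type u} [CommRing A] (I : Ideal A) : (Spec (CommRingCat.of A)).IdealSheafData :=
  Scheme.IdealSheafData.ofIdealTop (I.map (Scheme.ΓSpecIso (CommRingCat.of A)).inv.hom)

theorem idealOf_top {A : Type u} [CommRing A] (I : Ideal A) :
    (idealOf I).ideal ⟨⊤, isAffineOpen_top _⟩ = I.map (Scheme.ΓSpecIso (CommRingCat.of A)).inv.hom :=
  Scheme.IdealSheafData.equivOfIsAffine.apply_symm_apply _

theorem comap_SpecMap {A B : Type u} [CommRing A] [CommRing B] (φ : A →+* B) (I : Ideal A) :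
    ((idealOf I).comap (Spec.map (CommRingCat.ofHom φ))).ideal ⟨⊤, isAffineOpen_top _⟩ =
      (I.map φ).map (Scheme.ΓSpecIso (CommRingCat.of B)).inv.hom := by
  rw [Ideals.comap_ideal_top, idealOf_top, Ideal.map_map, Ideal.map_map, ← CommRingCat.hom_comp,
    ← Scheme.ΓSpecIso_inv_naturality]
  rfl

theorem comap_affHom {A : Type u} [CommRing A] (g : Y ⟶ Spec (CommRingCat.of A)) (V : Y.affineOpens) (I : Ideal A) :
    ((idealOf I).comap g).ideal V = I.map (affHom g V.2) := by
  refine Ideals.map_hom_inj (Scheme.ΓSpecIso Γ(Y, V.1)).symm ?_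
  rw [Iso.symm_hom]
  have hV : IsAffineOpen V.1 := V.2
  refine Eq.trans ?_ (comap_SpecMap (affHom g hV) I)
  rw [← fromSpec_affHom g hV, Scheme.IdealSheafData.comap_comp,
    Ideals.comap_ideal V.2.fromSpec _ V ⟨⊤, isAffineOpen_top _⟩ (by rw [V.2.fromSpec_preimage_self])]
  congr 1
  rw [Scheme.Hom.appLE, V.2.fromSpec_app_self, Category.assoc, ← Functor.map_comp, CommRingCat.hom_comp]
  simp

end Groth.L13.BU
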