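import Groth.Agent.L13.BlowUp.Exists
import Mathlib.AlgebraicGeometry.ProjectiveSpectrum.Proper

/-! Blow-ups in ideals of finite type are proper. -/

set_option autoImplicit false

universe u

open CategoryTheory CategoryTheory.Limits AlgebraicGeometry TopologicalSpace Opposite

namespace Groth.L13.BU

theorem isProper_rees {A : Type u} [CommRing A] {J : Ideal A} (hJ : J.FG) : IsProper (reesToSpec J) := by
  haveI : Algebra.FiniteType A (reesAlgebra J) :=
    ⟨(Subalgebra.fg_top _).2 (reesAlgebra.fg hJ)⟩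
  haveI : IsScalarTower A (Rees.deg (reesAlgebra J) 0) (reesAlgebra J) :=
    IsScalarTower.of_algebraMap_eq (R := A) (S := Rees.deg (reesAlgebra J) 0) (A := reesAlgebra J) fun x => rfl
  haveI : Algebra.FiniteType (Rees.deg (reesAlgebra J) 0) (reesAlgebra J) :=
    Algebra.FiniteType.of_restrictScalars_finiteType A _ _
  have hiso : IsIso (CommRingCat.ofHom (algebraMap A (Rees.deg (reesAlgebra J) 0)) :
      CommRingCat.of A ⟶ CommRingCat.of (Rees.deg (reesAlgebra J) 0)) := by
    refine (ConcreteCategory.isIso_iff_bijective _).2 ⟨fun x y h => ?_, fun z => ?_⟩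
    · have h' := congrArg (fun w : Rees.deg (reesAlgebra J) 0 => ((w : reesAlgebra J) : Polynomial A)) h
      exact Polynomial.C_injective h'
    · obtain ⟨c, hc, he⟩ := exists_mon J 0 _ z.2
      exact ⟨c, Subtype.ext (he ▸ Subtype.ext (by show Polynomial.C c = Polynomial.monomial 0 c; simp))⟩
  haveI := hiso
  show IsProper (Proj.toSpecZero _ ≫ Spec.map (CommRingCat.ofHom (algebraMap A (Rees.deg (reesAlgebra J) 0))))
  infer_instance

theorem isProper_blowUp {X B : Scheme.{u}} {b : B ⟶ X} {I : X.IdealSheafData} (hb : BlowUp.IsBlowUp b I)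
    (hI : BlowUp.IsFiniteTypeIdeal I) : IsProper b := by
  refine IsZariskiLocalAtTarget.of_iSup_eq_top (P := @IsProper) (fun U : X.affineOpens => U.1) (iSup_affineOpens_eq_top X) fun U => ?_
  have hU : IsAffineOpen U.1 := U.2
  let K := (I.comap U.1.ι).comap hU.isoSpec.inv
  let J : Ideal Γ(X, U.1) := (K.ideal ⟨⊤, isAffineOpen_top _⟩).map (Scheme.ΓSpecIso Γ(X, U.1)).hom.hom
  have hJ : idealOf J = K := by
    refine Scheme.IdealSheafData.ext_of_isAffine ?_
    rw [idealOf_top, Ideal.map_map, ← CommRingCat.hom_comp]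
    show Ideal.map ((Scheme.ΓSpecIso Γ(X, U.1)).hom ≫ (Scheme.ΓSpecIso Γ(X, U.1)).inv).hom _ = _
    rw [Iso.hom_inv_id, CommRingCat.hom_id]
    exact Ideal.map_id _
  have hfg : J.FG := by
    refine Ideal.FG.map ?_ _
    have hK : K.ideal ⟨⊤, isAffineOpen_top _⟩ = (I.ideal U).map (hU.fromSpec.appLE U.1 ⊤ (by rw [hU.fromSpec_preimage_self])).hom := by
      show ((I.comap U.1.ι).comap hU.isoSpec.inv).ideal _ = _
      rw [← Scheme.IdealSheafData.comap_comp]
      exact Groth.L22.Ideals.comap_ideal hU.fromSpec I U ⟨⊤, isAffineOpen_top _⟩ _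
    rw [hK]
    exact Ideal.FG.map (hI U) _
  have hK' : BlowUp.IsBlowUp (reesToSpec J) K := hJ ▸ isBlowUp_rees J
  have hb' : BlowUp.IsBlowUp (reesToSpec J ≫ hU.isoSpec.inv) (I.comap U.1.ι) := isBlowUp_of_iso hU.isoSpec.symm _ hK'
  obtain ⟨k, hk, -⟩ := (isBlowUp_pullback U.1.ι hb).2 _ _ hb'.1
  haveI := isIso_of_blowUps (isBlowUp_pullback U.1.ι hb) hb' k hk
  have hp : IsProper (reesToSpec J ≫ hU.isoSpec.inv) := by
    haveI := isProper_rees hfg
    infer_instance
  have hp' : IsProper (pullback.fst U.1.ι b) := by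
    rw [← IsIso.inv_hom_id_assoc k (pullback.fst U.1.ι b), show k ≫ pullback.fst U.1.ι b = _ from hk]
    haveI := hp
    infer_instance
  have he := (isPullback_morphismRestrict b U.1).flip
  rw [← IsPullback.isoPullback_hom_snd he]
  haveI : IsProper (pullback.snd b U.1.ι) := by
    rw [← pullbackSymmetry_hom_comp_fst]
    haveI := hp'
    infer_instance
  infer_instance

end Groth.L13.BU
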