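import Groth.Agent.L13.BlowUp.Proj
import Mathlib.AlgebraicGeometry.RelativeGluing

/-! Existence of blow-ups. -/

set_option autoImplicit false

universe u

open CategoryTheory CategoryTheory.Limits AlgebraicGeometry TopologicalSpace Opposite

namespace Groth.L13.BU

open Groth.L22

variable {X : Scheme.{u}}

theorem isBlowUp_of_iso {X₁ B : Scheme.{u}} (e : X₁ ≅ X) (I : X.IdealSheafData) {b : B ⟶ X₁}
    (hb : BlowUp.IsBlowUp b (I.comap e.hom)) : BlowUp.IsBlowUp (b ≫ e.hom) I := by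
  refine ⟨by rw [Scheme.IdealSheafData.comap_comp]; exact hb.1, fun Y g hY => ?_⟩
  obtain ⟨k, hk, huniq⟩ := hb.2 Y (g ≫ e.inv) (by rwa [← Scheme.IdealSheafData.comap_comp, Category.assoc, e.inv_hom_id,
    Category.comp_id])
  exact ⟨k, by show k ≫ b ≫ e.hom = g; rw [reassoc_of% hk, e.inv_hom_id, Category.comp_id],
    fun l hl => huniq l (by show l ≫ b = g ≫ e.inv; rw [← hl]; simp)⟩

/-- two blow-ups of the same ideal are compared by isomorphisms -/
theorem isIso_of_blowUps {B B' : Scheme.{u}} {I : X.IdealSheafData} {b : B ⟶ X} {b' : B' ⟶ X} (hb : BlowUp.IsBlowUp b I)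
    (hb' : BlowUp.IsBlowUp b' I) (k : B' ⟶ B) (hk : k ≫ b = b') : IsIso k := by
  obtain ⟨l, hl, -⟩ := hb'.2 B b hb.1
  refine ⟨l, ?_, ?_⟩
  · exact (hb'.2 B' b' hb'.1).unique (by show (k ≫ l) ≫ b' = b'; rw [Category.assoc, hl, hk]) (Category.id_comp _)
  · exact (hb.2 B b hb.1).unique (by show (l ≫ k) ≫ b = b; rw [Category.assoc, hk, hl]) (Category.id_comp _)

theorem isBlowUp_pullback {X₁ B : Scheme.{u}} (g : X₁ ⟶ X) [Flat g] {I : X.IdealSheafData} {b : B ⟶ X}
    (hb : BlowUp.IsBlowUp b I) : BlowUp.IsBlowUp (pullback.fst g b) (I.comap g) := by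
  have hsq : pullback.fst g b ≫ g = pullback.snd g b ≫ b := pullback.condition
  refine ⟨?_, fun Y h hY => ?_⟩
  · rw [← Scheme.IdealSheafData.comap_comp, hsq, Scheme.IdealSheafData.comap_comp]
    exact Ideals.isEffCartier_comap_of_flat _ hb.1
  · rw [← Scheme.IdealSheafData.comap_comp] at hY
    obtain ⟨k, hk, huniq⟩ := hb.2 Y (h ≫ g) hY
    refine ⟨pullback.lift h k hk.symm, pullback.lift_fst _ _ _, fun l hl => ?_⟩
    apply pullback.hom_ext
    · rw [pullback.lift_fst]; exact hl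
    · rw [pullback.lift_snd]
      refine huniq _ ?_
      show (l ≫ pullback.snd g b) ≫ b = h ≫ g
      rw [Category.assoc, ← hsq, ← Category.assoc, hl]

theorem isPullback_of_blowUps {X₁ B B₁ : Scheme.{u}} (g : X₁ ⟶ X) [Flat g] {I : X.IdealSheafData} {b : B ⟶ X}
    {b₁ : B₁ ⟶ X₁} (hb : BlowUp.IsBlowUp b I) (hb₁ : BlowUp.IsBlowUp b₁ (I.comap g)) (k : B₁ ⟶ B) (hk : k ≫ b = b₁ ≫ g) :
    IsPullback b₁ k g b := by
  have := isIso_of_blowUps (isBlowUp_pullback g hb) hb₁ (pullback.lift b₁ k hk.symm) (pullback.lift_fst _ _ _)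
  exact IsPullback.of_iso_pullback ⟨hk.symm⟩ (asIso (pullback.lift b₁ k hk.symm)) (pullback.lift_fst _ _ _)
    (pullback.lift_snd _ _ _)

theorem exists_isBlowUp_affineOpen (I : X.IdealSheafData) (U : X.affineOpens) :
    ∃ (B : Scheme.{u}) (b : B ⟶ U.1.toScheme), BlowUp.IsBlowUp b (I.comap U.1.ι) := by
  have hU : IsAffineOpen U.1 := U.2
  let K := (I.comap U.1.ι).comap hU.isoSpec.inv
  let J : Ideal Γ(X, U.1) := (K.ideal ⟨⊤, isAffineOpen_top _⟩).map (Scheme.ΓSpecIso Γ(X, U.1)).hom.hom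
  have hJ : idealOf J = K := by
    refine Scheme.IdealSheafData.ext_of_isAffine ?_
    rw [idealOf_top, Ideal.map_map, ← CommRingCat.hom_comp]
    show Ideal.map ((Scheme.ΓSpecIso Γ(X, U.1)).hom ≫ (Scheme.ΓSpecIso Γ(X, U.1)).inv).hom _ = _
    rw [Iso.hom_inv_id, CommRingCat.hom_id]
    exact Ideal.map_id _
  have hb : BlowUp.IsBlowUp (reesToSpec J) K := hJ ▸ isBlowUp_rees J
  exact ⟨_, reesToSpec J ≫ hU.isoSpec.inv, isBlowUp_of_iso hU.isoSpec.symm _ hb⟩

theorem exists_isBlowUp (I : X.IdealSheafData) : ∃ (X' : Scheme.{u}) (b : X' ⟶ X), BlowUp.IsBlowUp b I := by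
  choose B b hb using exists_isBlowUp_affineOpen I
  have hcomap : ∀ {U V : X.affineOpens} (h : U ≤ V), (I.comap V.1.ι).comap (X.homOfLE h) = I.comap U.1.ι := fun h => by
    rw [← Scheme.IdealSheafData.comap_comp, Scheme.homOfLE_ι]
  choose t ht huniq using fun (U V : X.affineOpens) (h : U ≤ V) => (hb V).2 (B U) (b U ≫ X.homOfLE h) (by
    rw [Scheme.IdealSheafData.comap_comp, hcomap h]; exact (hb U).1)
  let F : X.directedAffineCover.I₀ ⥤ Scheme.{u} :=
    { obj := B
      map := fun {U V} h => t U V (leOfHom h)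
      map_id := fun U => (huniq U U le_rfl (𝟙 _) (by simp)).symm
      map_comp := fun {U V W} h h' => (huniq U W (leOfHom (h ≫ h')) (t U V (leOfHom h) ≫ t V W (leOfHom h')) (by
        show (_ ≫ _) ≫ b W = _
        refine (Category.assoc _ _ _).trans ((congrArg (t U V (leOfHom h) ≫ ·) (ht V W (leOfHom h'))).trans ?_)
        refine (Category.assoc _ _ _).symm.trans ((congrArg (· ≫ _) (ht U V (leOfHom h))).trans ?_)
        exact (Category.assoc _ _ _).trans (congrArg (b U ≫ ·) (Scheme.homOfLE_homOfLE _ _ _)))).symm }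
  let d : Scheme.Cover.RelativeGluingData X.directedAffineCover :=
    { functor := F
      natTrans := { app := b, naturality := fun U V h => ht U V (leOfHom h) }
      equifibered := fun U V h => by
        haveI : Flat (X.homOfLE (leOfHom h)) := inferInstance
        exact (isPullback_of_blowUps (X.homOfLE (leOfHom h)) (hb V) ((congrArg (BlowUp.IsBlowUp (b U)) (hcomap (leOfHom h))).mpr (hb U))
          (t U V (leOfHom h)) (ht U V (leOfHom h))).flip }
  haveI : Small.{u} X.directedAffineCover.I₀ := inferInstanceAs (Small.{u} X.affineOpens)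
  haveI hthin : Quiver.IsThin X.directedAffineCover.I₀ := fun U V => inferInstanceAs (Subsingleton (U ⟶ V))
  haveI : (d.functor ⋙ Scheme.forget).IsLocallyDirected :=
    Scheme.Cover.RelativeGluingData.instIsLocallyDirectedI₀CompFunctorForgetOfIsThin d
  haveI : ∀ {U V : X.directedAffineCover.I₀} (h : U ⟶ V), IsOpenImmersion (d.functor.map h) := fun {U V} h =>
    MorphismProperty.of_isPullback (P := @IsOpenImmersion) (d.equifibered h).flip
      (inferInstanceAs (IsOpenImmersion (X.homOfLE (leOfHom h))))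
  have hsq : ∀ U : X.directedAffineCover.I₀, IsPullback (b U) (colimit.ι d.functor U) U.1.ι d.toBase := fun U =>
    d.isPullback_natTrans_ι_toBase U
  have huniq' : ∀ (Y : Scheme.{u}) (h₁ h₂ : Y ⟶ d.glued), h₁ ≫ d.toBase = h₂ ≫ d.toBase →
      BlowUp.IsEffCartierIdeal (I.comap (h₁ ≫ d.toBase)) → h₁ = h₂ := by
    intro Y h₁ h₂ he hY
    refine Scheme.Cover.hom_ext (X.directedAffineCover.pullback₁ (h₁ ≫ d.toBase)) _ _ fun U => ?_
    show pullback.fst (h₁ ≫ d.toBase) U.1.ι ≫ h₁ = pullback.fst (h₁ ≫ d.toBase) U.1.ι ≫ h₂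
    have c₁ : pullback.snd (h₁ ≫ d.toBase) U.1.ι ≫ U.1.ι = (pullback.fst (h₁ ≫ d.toBase) U.1.ι ≫ h₁) ≫ d.toBase := by
      rw [Category.assoc]; exact pullback.condition.symm
    have c₂ : pullback.snd (h₁ ≫ d.toBase) U.1.ι ≫ U.1.ι = (pullback.fst (h₁ ≫ d.toBase) U.1.ι ≫ h₂) ≫ d.toBase := by
      rw [Category.assoc, ← he]; exact pullback.condition.symm
    rw [← (hsq U).lift_snd _ _ c₁, ← (hsq U).lift_snd _ _ c₂]
    congr 1
    refine ((hb U).2 _ (pullback.snd (h₁ ≫ d.toBase) U.1.ι) ?_).unique ((hsq U).lift_fst _ _ _) ((hsq U).lift_fst _ _ _)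
    rw [← Scheme.IdealSheafData.comap_comp, ← pullback.condition, Scheme.IdealSheafData.comap_comp]
    exact Ideals.isEffCartier_comap_of_flat _ hY
  refine ⟨d.glued, d.toBase, ?_, fun Y g hY => ?_⟩
  · refine isEffCartier_of_cover fun x => ?_
    obtain ⟨U, y, rfl⟩ := d.cover.exists_eq x
    refine ⟨_, d.cover.f U, inferInstance, ⟨y, rfl⟩, ?_⟩
    show BlowUp.IsEffCartierIdeal ((I.comap d.toBase).comap (colimit.ι d.functor U))
    rw [← Scheme.IdealSheafData.comap_comp, ← (hsq U).w, Scheme.IdealSheafData.comap_comp]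
    exact (hb U).1
  · let 𝒰 : Y.OpenCover := X.directedAffineCover.pullback₁ g
    have hE : ∀ U : X.affineOpens, BlowUp.IsEffCartierIdeal ((I.comap U.1.ι).comap (pullback.snd g U.1.ι)) := fun U => by
      rw [← Scheme.IdealSheafData.comap_comp, ← pullback.condition, Scheme.IdealSheafData.comap_comp]
      exact Ideals.isEffCartier_comap_of_flat _ hY
    choose k hk using fun U : X.affineOpens => ((hb U).2 _ _ (hE U)).exists
    let f : ∀ U : X.directedAffineCover.I₀, pullback g U.1.ι ⟶ d.glued := fun U => k U ≫ colimit.ι d.functor U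
    have hf : ∀ U, f U ≫ d.toBase = pullback.fst g U.1.ι ≫ g := fun U => by
      rw [Category.assoc, ← (hsq U).w, reassoc_of% (hk U)]; exact pullback.condition.symm
    have hglue : ∀ U V : 𝒰.I₀, pullback.fst (𝒰.f U) (𝒰.f V) ≫ f U = pullback.snd (𝒰.f U) (𝒰.f V) ≫ f V := fun U V => by
      have e1 : (pullback.fst (𝒰.f U) (𝒰.f V) ≫ f U) ≫ d.toBase = (pullback.fst (𝒰.f U) (𝒰.f V) ≫ 𝒰.f U) ≫ g :=
        (Category.assoc _ _ _).trans ((congrArg (_ ≫ ·) (hf U)).trans (Category.assoc _ _ _).symm)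
      refine huniq' _ _ _ ?_ ?_
      · refine e1.trans ?_
        exact ((Category.assoc _ _ _).trans ((congrArg (_ ≫ ·) (hf V)).trans ((Category.assoc _ _ _).symm.trans
          (congrArg (· ≫ g) pullback.condition.symm)))).symm
      · rw [e1, Scheme.IdealSheafData.comap_comp]
        exact Ideals.isEffCartier_comap_of_flat _ hY
    refine ⟨𝒰.glueMorphisms f hglue, ?_, fun h hh => ?_⟩
    · exact Scheme.Cover.hom_ext 𝒰 _ _ fun U => (𝒰.ι_glueMorphisms_assoc f hglue U d.toBase).trans (hf U)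
    · refine huniq' Y _ _ ?_ ?_
      · exact hh.trans (Scheme.Cover.hom_ext 𝒰 _ _ fun U => (𝒰.ι_glueMorphisms_assoc f hglue U d.toBase).trans (hf U)).symm
      · exact (show h ≫ d.toBase = g from hh) ▸ hY

end Groth.L13.BU
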