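import Groth.Agent.L13.BlowUp.ReesChart
import Groth.Agent.L13.BlowUp.Local
import Groth.Prelude.Def_ega3
import Mathlib.AlgebraicGeometry.ProjectiveSpectrum.Basic

/-! `Proj` of the Rees algebra is the blow-up of an affine scheme. -/

set_option autoImplicit false

universe u

open CategoryTheory CategoryTheory.Limits AlgebraicGeometry TopologicalSpace Opposite

namespace Groth.L13.BU

open Groth.L22

variable {A : Type u} [CommRing A] (I : Ideal A)

/-- the structure map of the affine blow-up -/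
noncomputable abbrev reesToSpec : Proj (Rees.deg (reesAlgebra I)) ⟶ Spec (CommRingCat.of A) :=
  Proj (Rees.deg (reesAlgebra I)) ↘ Spec (CommRingCat.of A)

/-- the chart of `a` -/
noncomputable abbrev chartι (a : A) (ha : a ∈ I ^ 1) :
    Spec (CommRingCat.of (Chart I a ha)) ⟶ Proj (Rees.deg (reesAlgebra I)) :=
  Proj.awayι (Rees.deg (reesAlgebra I)) (mon I 1 a ha) (mon_mem I 1 a ha) one_pos

theorem chartι_reesToSpec (a : A) (ha : a ∈ I ^ 1) :
    chartι I a ha ≫ reesToSpec I = Spec.map (CommRingCat.ofHom (chartHom I a ha)) := by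
  show Proj.awayι _ _ _ _ ≫ Proj.toSpecZero _ ≫ _ = _
  rw [← Category.assoc, Proj.awayι_toSpecZero, ← Spec.map_comp]
  rfl

theorem iSup_chart : ⨆ a : {a : A // a ∈ I ^ 1}, Proj.basicOpen (Rees.deg (reesAlgebra I)) (mon I 1 a.1 a.2) = ⊤ := by
  classical
  refine Proj.iSup_basicOpen_eq_top _ _ fun z hz => ?_
  rw [← DirectSum.sum_support_decompose (Rees.deg (reesAlgebra I)) z]
  refine Ideal.sum_mem _ fun n hn => ?_
  rcases n with _ | n
  · exact absurd hz (by simpa [HomogeneousIdeal.mem_irrelevant_iff, GradedRing.proj_apply] using hn)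
  · obtain ⟨c, hc, he⟩ := exists_mon I (n + 1) _ (DirectSum.decompose (Rees.deg (reesAlgebra I)) z (n + 1)).2
    rw [he]
    have hc1 : c ∈ I ^ 1 * I ^ n := by rw [← pow_add, add_comm]; exact hc
    suffices h : ∃ hc' : c ∈ I ^ (n + 1), mon I (n + 1) c hc' ∈
        Ideal.span (Set.range fun a : {a : A // a ∈ I ^ 1} => mon I 1 a.1 a.2) from h.2
    refine Submodule.mul_induction_on hc1 (fun x hx y hy => ?_) (fun x y ih₁ ih₂ => ?_)
    · refine ⟨by rw [add_comm, pow_add]; exact Ideal.mul_mem_mul hx hy, ?_⟩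
      have hm : mon I (n + 1) (x * y) (by rw [add_comm, pow_add]; exact Ideal.mul_mem_mul hx hy) =
          mon I 1 x hx * mon I n y hy := by
        rw [mon_mul]; exact Subtype.ext (by show Polynomial.monomial _ _ = Polynomial.monomial _ _; rw [add_comm 1 n])
      rw [hm]
      exact Ideal.mul_mem_right _ _ (Ideal.subset_span ⟨⟨x, hx⟩, rfl⟩)
    · obtain ⟨h₁, m₁⟩ := ih₁
      obtain ⟨h₂, m₂⟩ := ih₂
      refine ⟨add_mem h₁ h₂, ?_⟩
      rw [show mon I (n + 1) (x + y) (add_mem h₁ h₂) = mon I (n + 1) x h₁ + mon I (n + 1) y h₂ from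
        Subtype.ext (map_add (Polynomial.monomial (n + 1)) x y)]
      exact add_mem m₁ m₂

variable {I}

theorem affHom_eq {Y : Scheme.{u}} {g : Y ⟶ Spec (CommRingCat.of A)} {h : Y ⟶ Proj (Rees.deg (reesAlgebra I))}
    (hh : h ≫ reesToSpec I = g) (a : A) (ha : a ∈ I ^ 1) {W : Y.Opens} (hW : IsAffineOpen W)
    (hle : W ≤ h ⁻¹ᵁ Proj.basicOpen (Rees.deg (reesAlgebra I)) (mon I 1 a ha)) :
    ∃ ψ : Chart I a ha →+* Γ(Y, W), W.ι ≫ h = hW.isoSpec.hom ≫ Spec.map (CommRingCat.ofHom ψ) ≫ chartι I a ha ∧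
      affHom g hW = ψ.comp (chartHom I a ha) := by
  have hrange : Set.range (hW.fromSpec ≫ h) ⊆ Set.range (chartι I a ha) := by
    rintro _ ⟨y, rfl⟩
    have : h (hW.fromSpec y) ∈ (chartι I a ha).opensRange := by
      rw [Proj.opensRange_awayι]
      refine hle ?_
      show hW.fromSpec y ∈ (W : Set Y)
      rw [← hW.range_fromSpec]
      exact Set.mem_range_self y
    exact this
  obtain ⟨ψ', hψ⟩ : ∃ ψ' : CommRingCat.of (Chart I a ha) ⟶ Γ(Y, W), Spec.map ψ' = IsOpenImmersion.lift (chartι I a ha) _ hrange :=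
    ⟨Spec.preimage _, Spec.map_preimage _⟩
  have hfac : Spec.map ψ' ≫ chartι I a ha = hW.fromSpec ≫ h := by rw [hψ, IsOpenImmersion.lift_fac]
  refine ⟨ψ'.hom, ?_, ?_⟩
  · rw [CommRingCat.ofHom_hom, hfac, hW.isoSpec_hom_fromSpec_assoc]
  · have h1 : Spec.map (CommRingCat.ofHom (affHom g hW)) = Spec.map (CommRingCat.ofHom (chartHom I a ha) ≫ ψ') := by
      rw [Spec.map_comp, ← chartι_reesToSpec, ← Category.assoc, hfac, ← fromSpec_affHom, Category.assoc, hh]
    exact congrArg CommRingCat.Hom.hom (Spec.map_injective h1)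

theorem lift_unique {Y : Scheme.{u}} {g : Y ⟶ Spec (CommRingCat.of A)} (hY : BlowUp.IsEffCartierIdeal ((idealOf I).comap g))
    {h₁ h₂ : Y ⟶ Proj (Rees.deg (reesAlgebra I))} (e₁ : h₁ ≫ reesToSpec I = g) (e₂ : h₂ ≫ reesToSpec I = g) : h₁ = h₂ := by
  have hmem : ∀ p : Proj (Rees.deg (reesAlgebra I)), ∃ a : {a : A // a ∈ I ^ 1},
      p ∈ Proj.basicOpen (Rees.deg (reesAlgebra I)) (mon I 1 a.1 a.2) := fun p =>
    Opens.mem_iSup.1 ((iSup_chart I).ge (Set.mem_univ p))
  have key : ∀ y : Y, ∃ W : Y.Opens, y ∈ W ∧ W.ι ≫ h₁ = W.ι ≫ h₂ := by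
    intro y
    obtain ⟨⟨a, ha⟩, hya⟩ := hmem (h₁ y)
    obtain ⟨⟨b, hb⟩, hyb⟩ := hmem (h₂ y)
    obtain ⟨_, ⟨W, hW, rfl⟩, hyW, hWle⟩ := Y.isBasis_affineOpens.exists_subset_of_mem_open
      (show y ∈ h₁ ⁻¹ᵁ Proj.basicOpen (Rees.deg (reesAlgebra I)) (mon I 1 a ha) ⊓
        h₂ ⁻¹ᵁ Proj.basicOpen (Rees.deg (reesAlgebra I)) (mon I 1 b hb) from ⟨hya, hyb⟩) (Opens.is_open' _)
    obtain ⟨ψ₁, hψ₁, hφ₁⟩ := affHom_eq e₁ a ha hW fun z hz => (hWle hz).1
    obtain ⟨ψ₂, hψ₂, hφ₂⟩ := affHom_eq e₂ b hb hW fun z hz => (hWle hz).2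
    have hspan : ((idealOf I).comap g).ideal ⟨W, hW⟩ = Ideal.span {affHom g hW a} := by
      rw [comap_affHom, hφ₁, ← Ideal.map_map, map_ideal, Ideal.map_span, Set.image_singleton]
      rfl
    have hnzd := nzd_of_span hY ⟨W, hW⟩ _ hspan
    have hspanb : Ideal.span {affHom g hW b} = Ideal.span {affHom g hW a} := by
      rw [← hspan, comap_affHom, hφ₂, ← Ideal.map_map, map_ideal, Ideal.map_span, Set.image_singleton]
      rfl
    set u := ψ₂ (frac I b hb 1 a ha) with hu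
    have hua : affHom g hW a = affHom g hW b * u := by
      simp only [hφ₂, RingHom.comp_apply, hu]
      rw [← map_mul, ← chartHom_eq I b hb a ha]
    obtain ⟨v, hv⟩ := Ideal.mem_span_singleton.1 (hspanb ▸ Ideal.mem_span_singleton_self (affHom g hW b) :
      affHom g hW b ∈ Ideal.span {affHom g hW a})
    have huu : IsUnit u := IsUnit.of_mul_eq_one v ((mul_cancel_left_mem_nonZeroDivisors hnzd).1 (by
      rw [mul_one]
      calc affHom g hW a * (u * v) = affHom g hW a * v * u := by ring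
        _ = affHom g hW b * u := by rw [hv]
        _ = affHom g hW a := hua.symm))
    have hle : W ≤ h₂ ⁻¹ᵁ Proj.basicOpen (Rees.deg (reesAlgebra I)) (mon I 1 a ha) := by
      have hfs : hW.fromSpec ≫ h₂ = Spec.map (CommRingCat.ofHom ψ₂) ≫ chartι I b hb := by
        rw [← cancel_epi hW.isoSpec.hom, hW.isoSpec_hom_fromSpec_assoc]; exact hψ₂
      intro z hz
      obtain ⟨q, rfl⟩ : z ∈ Set.range hW.fromSpec := by rw [hW.range_fromSpec]; exact hz
      show (hW.fromSpec ≫ h₂) q ∈ Proj.basicOpen (Rees.deg (reesAlgebra I)) (mon I 1 a ha)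
      rw [hfs]
      show Spec.map (CommRingCat.ofHom ψ₂) q ∈ chartι I b hb ⁻¹ᵁ Proj.basicOpen (Rees.deg (reesAlgebra I)) (mon I 1 a ha)
      rw [Proj.awayι_preimage_basicOpen _ (mon_mem I 1 b hb) one_pos (mon_mem I 1 a ha) one_pos]
      have hel : HomogeneousLocalization.Away.isLocalizationElem (mon_mem I 1 b hb) (mon_mem I 1 a ha) = frac I b hb 1 a ha := by
        apply HomogeneousLocalization.val_injective
        rw [val_frac, HomogeneousLocalization.Away.val_mk]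
        congr 1
        exact pow_one _
      rw [hel]
      show ψ₂ _ ∉ q.asIdeal
      exact fun hq => q.2.ne_top (Ideal.eq_top_of_isUnit_mem _ hq huu)
    obtain ⟨ψ₂', hψ₂', hφ₂'⟩ := affHom_eq e₂ a ha hW hle
    refine ⟨W, hyW, ?_⟩
    have hn' : ψ₁ (chartHom I a ha a) ∈ nonZeroDivisors Γ(Y, W) := by rw [← RingHom.comp_apply, ← hφ₁]; exact hnzd
    rw [hψ₁, hψ₂', chart_hom_ext I a ha (hφ₁.symm.trans hφ₂') hn']
  choose W hyW hW using key
  exact Scheme.Cover.hom_ext (Y.openCoverOfIsOpenCover W (eq_top_iff.2 fun y _ => Opens.mem_iSup.2 ⟨y, hyW y⟩)) _ _ hW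

theorem isEffCartier_rees : BlowUp.IsEffCartierIdeal ((idealOf I).comap (reesToSpec I)) := by
  refine isEffCartier_of_cover fun x => ?_
  obtain ⟨⟨a, ha⟩, hx⟩ := Opens.mem_iSup.1 ((iSup_chart I).ge (Set.mem_univ x))
  refine ⟨_, chartι I a ha, inferInstance, ?_, ?_⟩
  · show x ∈ (chartι I a ha).opensRange
    rw [Proj.opensRange_awayι]; exact hx
  · rw [← Scheme.IdealSheafData.comap_comp, chartι_reesToSpec]
    intro z
    refine ⟨⟨⊤, isAffineOpen_top _⟩, trivial, (Scheme.ΓSpecIso (CommRingCat.of (Chart I a ha))).inv (chartHom I a ha a), ?_, ?_⟩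
    · rw [mem_nonZeroDivisors_iff_right]
      intro s hs
      let e := (Scheme.ΓSpecIso (CommRingCat.of (Chart I a ha))).commRingCatIsoToRingEquiv
      refine e.map_eq_zero_iff.1 ((chartHom_nonZeroDivisor I a ha).2 _ ?_)
      have h1 := congrArg e hs
      rw [map_mul, map_zero] at h1
      rwa [show e ((Scheme.ΓSpecIso (CommRingCat.of (Chart I a ha))).inv (chartHom I a ha a)) = chartHom I a ha a from
        e.apply_symm_apply _] at h1
    · rw [comap_SpecMap, map_ideal, Ideal.map_span, Set.image_singleton]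

/-- near every point some element of `I` generates the pulled back ideal -/
theorem exists_local_generator {Y : Scheme.{u}} {g : Y ⟶ Spec (CommRingCat.of A)}
    (hY : BlowUp.IsEffCartierIdeal ((idealOf I).comap g)) (y : Y) :
    ∃ (W : Y.affineOpens) (a : A), a ∈ I ∧ y ∈ W.1 ∧ ((idealOf I).comap g).ideal W = Ideal.span {affHom g W.2 a} := by
  obtain ⟨U, hyU, e, he, hUI, -⟩ := Ideals.exists_generator hY y
  rw [comap_affHom g U I] at hUI
  let S : Ideal Γ(Y, U.1) := Ideal.span {c | ∃ x ∈ I, affHom g U.2 x = e * c}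
  have hS : ∀ w ∈ I.map (affHom g U.2), ∃ c ∈ S, w = e * c := by
    intro w hw
    induction hw using Submodule.span_induction with
    | mem w hw =>
      obtain ⟨x, hx, rfl⟩ := hw
      obtain ⟨c, hc⟩ := Ideal.mem_span_singleton.1 (hUI ▸ Ideal.mem_map_of_mem (affHom g U.2) hx)
      exact ⟨c, Ideal.subset_span ⟨x, hx, hc⟩, hc⟩
    | zero => exact ⟨0, zero_mem _, (mul_zero e).symm⟩
    | add v w _ _ hv hw =>
      obtain ⟨c, hc, rfl⟩ := hv
      obtain ⟨c', hc', rfl⟩ := hw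
      exact ⟨c + c', add_mem hc hc', (mul_add _ _ _).symm⟩
    | smul r v _ hv =>
      obtain ⟨c, hc, rfl⟩ := hv
      exact ⟨r * c, Ideal.mul_mem_left _ _ hc, by rw [smul_eq_mul]; ring⟩
  obtain ⟨c₀, hc₀, hec⟩ := hS e (hUI ▸ Ideal.mem_span_singleton_self e)
  have hc1 : c₀ = 1 := (mul_cancel_left_mem_nonZeroDivisors he).1 (by rw [mul_one]; exact hec.symm)
  subst hc1
  obtain ⟨c, ⟨x, hx, hxc⟩, hyc⟩ : ∃ c ∈ {c | ∃ x ∈ I, affHom g U.2 x = e * c}, y ∈ Y.basicOpen c := by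
    by_contra hcon
    push Not at hcon
    have hle : S ≤ (U.2.primeIdealOf ⟨y, hyU⟩).asIdeal := Ideal.span_le.2 fun c hc => by
      by_contra hnot
      refine hcon c hc ((Y.mem_basicOpen c y hyU).2 ?_)
      letI : Algebra Γ(Y, U.1) (Y.presheaf.stalk y) :=
        TopCat.Presheaf.algebra_section_stalk Y.presheaf ⟨y, hyU⟩
      haveI := U.2.isLocalization_stalk ⟨y, hyU⟩
      exact IsLocalization.map_units (Y.presheaf.stalk y) (⟨c, hnot⟩ : (U.2.primeIdealOf ⟨y, hyU⟩).asIdeal.primeCompl)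
    exact (U.2.primeIdealOf ⟨y, hyU⟩).2.ne_top ((Ideal.eq_top_iff_one _).2 (hle hc₀))
  let W : Y.affineOpens := ⟨Y.basicOpen c, U.2.basicOpen c⟩
  have hWU : W.1 ≤ U.1 := Y.basicOpen_le c
  refine ⟨W, x, hx, hyc, ?_⟩
  rw [← comap_affHom g U I] at hUI
  have hres : affHom g W.2 x = Y.presheaf.map (homOfLE hWU).op (affHom g U.2 x) := by
    have : Spec.map (CommRingCat.ofHom (affHom g W.2)) =
        Spec.map (CommRingCat.ofHom (affHom g U.2) ≫ Y.presheaf.map (homOfLE hWU).op) := by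
      rw [Spec.map_comp]
      refine (fromSpec_affHom g W.2).symm.trans (Eq.trans ?_ (congrArg (_ ≫ ·) (fromSpec_affHom g U.2)))
      rw [U.2.map_fromSpec_assoc W.2]
    exact congrArg (fun ρ => ρ.hom x) (Spec.map_injective this)
  have := Scheme.IdealSheafData.map_ideal ((idealOf I).comap g) (U := W) (V := U) hWU
  rw [← this, hUI, Ideal.map_span, Set.image_singleton, hres, hxc, map_mul]
  exact (Ideal.span_singleton_mul_right_unit (Y.toRingedSpace.isUnit_res_basicOpen c) _).symm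

theorem isBlowUp_rees (I : Ideal A) : BlowUp.IsBlowUp (reesToSpec I) (idealOf I) := by
  refine ⟨isEffCartier_rees, fun Y g hY => ?_⟩
  choose W a haI hyW hspan using exists_local_generator hY
  let 𝒰 := Y.openCoverOfIsOpenCover (fun y => (W y).1) (eq_top_iff.2 fun y _ => Opens.mem_iSup.2 ⟨y, hyW y⟩)
  have hψ : ∀ y, ∃ ψ : Chart I (a y) (by simpa using haI y) →+* Γ(Y, (W y).1),
      ψ.comp (chartHom I (a y) (by simpa using haI y)) = affHom g (W y).2 := fun y => by
    refine exists_chart_lift I (a y) _ _ (nzd_of_span hY _ _ (hspan y)) fun x hx => ?_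
    rw [← Ideal.mem_span_singleton, ← hspan y, comap_affHom]
    exact Ideal.mem_map_of_mem _ hx
  choose ψ hψ using hψ
  let f : ∀ y, (W y).1.toScheme ⟶ Proj (Rees.deg (reesAlgebra I)) := fun y =>
    (W y).2.isoSpec.hom ≫ Spec.map (CommRingCat.ofHom (ψ y)) ≫ chartι I (a y) (by simpa using haI y)
  have hf : ∀ y, f y ≫ reesToSpec I = (W y).1.ι ≫ g := fun y => by
    rw [ι_affHom g (W y).2]
    simp only [f, Category.assoc, chartι_reesToSpec]
    rw [← Spec.map_comp, ← CommRingCat.ofHom_comp, hψ]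
  have hglue : ∀ x y, pullback.fst (𝒰.f x) (𝒰.f y) ≫ f x = pullback.snd (𝒰.f x) (𝒰.f y) ≫ f y := fun x y => by
    refine lift_unique (g := pullback.fst (𝒰.f x) (𝒰.f y) ≫ 𝒰.f x ≫ g) ?_ ?_ ?_
    · rw [← Category.assoc, Scheme.IdealSheafData.comap_comp]
      exact Ideals.isEffCartier_comap_of_flat _ hY
    · exact (Category.assoc _ _ _).trans (congrArg (_ ≫ ·) (hf x))
    · exact (Category.assoc _ _ _).trans ((congrArg (_ ≫ ·) (hf y)).trans
        ((Category.assoc _ _ _).symm.trans ((congrArg (· ≫ g) pullback.condition.symm).trans (Category.assoc _ _ _))))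
  refine ⟨𝒰.glueMorphisms f hglue, ?_, fun h hh => ?_⟩
  · refine Scheme.Cover.hom_ext 𝒰 _ _ fun y => ?_
    exact (𝒰.ι_glueMorphisms_assoc f hglue y (reesToSpec I)).trans (hf y)
  · refine lift_unique hY hh ?_
    refine Scheme.Cover.hom_ext 𝒰 _ _ fun y => ?_
    exact (𝒰.ι_glueMorphisms_assoc f hglue y (reesToSpec I)).trans (hf y)

end Groth.L13.BU
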