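import Groth.Prelude.Def_Rees
import Mathlib.RingTheory.GradedAlgebra.HomogeneousLocalization
import Mathlib.RingTheory.Localization.Away.Basic
import Mathlib.Tactic

/-! The charts of `Proj` of a Rees algebra. -/

set_option autoImplicit false

universe u

open HomogeneousLocalization

namespace Groth.L13.BU

variable {A : Type u} [CommRing A] (I : Ideal A)

/-- the element `c X^n` -/
noncomputable def mon (n : ℕ) (c : A) (hc : c ∈ I ^ n) : reesAlgebra I :=
  ⟨Polynomial.monomial n c, reesAlgebra.monomial_mem.2 hc⟩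

theorem mon_mem (n : ℕ) (c : A) (hc : c ∈ I ^ n) : mon I n c hc ∈ Rees.deg (reesAlgebra I) n := fun m hm => by
  show (Polynomial.monomial n c).coeff m = 0
  rw [Polynomial.coeff_monomial, if_neg fun h => hm h.symm]

theorem mon_mul (n m : ℕ) (c c' : A) (hc : c ∈ I ^ n) (hc' : c' ∈ I ^ m) :
    mon I n c hc * mon I m c' hc' = mon I (n + m) (c * c') (by rw [pow_add]; exact Ideal.mul_mem_mul hc hc') :=
  Subtype.ext (Polynomial.monomial_mul_monomial n m c c')

theorem mon_pow (n : ℕ) (a : A) (ha : a ∈ I ^ 1) :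
    mon I 1 a ha ^ n = mon I n (a ^ n) (Ideal.pow_mem_pow (by simpa using ha) n) :=
  Subtype.ext (by
    show (Polynomial.monomial 1 a) ^ n = Polynomial.monomial n (a ^ n)
    rw [Polynomial.monomial_pow, one_mul])

theorem exists_mon (n : ℕ) (z : reesAlgebra I) (hz : z ∈ Rees.deg (reesAlgebra I) n) :
    ∃ c hc, z = mon I n c hc := by
  refine ⟨(z : Polynomial A).coeff n, z.2 n, Subtype.ext (Polynomial.ext fun m => ?_)⟩
  show _ = (Polynomial.monomial n _).coeff m
  rw [Polynomial.coeff_monomial]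
  split_ifs with h
  · rw [h]
  · exact hz m (Ne.symm h)

variable (a : A) (ha : a ∈ I ^ 1)

/-- the chart ring -/
abbrev Chart : Type u := Away (Rees.deg (reesAlgebra I)) (mon I 1 a ha)

/-- the fraction `c / a ^ n` -/
noncomputable def frac (n : ℕ) (c : A) (hc : c ∈ I ^ n) : Chart I a ha :=
  Away.mk _ (mon_mem I 1 a ha) n (mon I n c hc) (by rw [nsmul_one]; exact mon_mem I n c hc)

theorem val_frac (n : ℕ) (c : A) (hc : c ∈ I ^ n) :
    (frac I a ha n c hc).val = Localization.mk (mon I n c hc) (⟨mon I 1 a ha ^ n, n, rfl⟩ : Submonoid.powers (mon I 1 a ha)) := Away.val_mk _ _ _ _ _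

theorem frac_surjective (z : Chart I a ha) : ∃ n c hc, frac I a ha n c hc = z := by
  obtain ⟨n, x, hx, rfl⟩ := Away.mk_surjective _ (mon_mem I 1 a ha) z
  obtain ⟨c, hc, rfl⟩ := exists_mon I n x (by simpa using hx)
  exact ⟨n, c, hc, rfl⟩

/-- structure map -/
noncomputable def chartHom : A →+* Chart I a ha :=
  (fromZeroRingHom (Rees.deg (reesAlgebra I)) _).comp (algebraMap A (Rees.deg (reesAlgebra I) 0))

theorem chartHom_apply (r : A) : chartHom I a ha r = frac I a ha 0 r (by simp) := by
  apply val_injective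
  rw [val_frac]
  show Localization.mk ((algebraMap A (Rees.deg (reesAlgebra I) 0) r : Rees.deg (reesAlgebra I) 0) : reesAlgebra I) 1 = _
  congr 1

theorem frac_mul (n m : ℕ) (c c' : A) (hc : c ∈ I ^ n) (hc' : c' ∈ I ^ m) :
    frac I a ha n c hc * frac I a ha m c' hc' =
      frac I a ha (n + m) (c * c') (by rw [pow_add]; exact Ideal.mul_mem_mul hc hc') := by
  apply val_injective
  rw [val_mul, val_frac, val_frac, val_frac, Localization.mk_mul, mon_mul]
  congr 1
  exact Subtype.ext (pow_add _ _ _).symm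

theorem frac_eq_frac {n m : ℕ} {c c' : A} (hc : c ∈ I ^ n) (hc' : c' ∈ I ^ m) (h : a ^ m * c = a ^ n * c') :
    frac I a ha n c hc = frac I a ha m c' hc' := by
  apply val_injective
  rw [val_frac, val_frac, Localization.mk_eq_mk_iff, Localization.r_iff_exists]
  refine ⟨1, ?_⟩
  simp only [OneMemClass.coe_one, one_mul, mon_pow, mon_mul]
  exact Subtype.ext (by
    show Polynomial.monomial (m + n) (a ^ m * c) = Polynomial.monomial (n + m) (a ^ n * c')
    rw [h, add_comm m n])

theorem frac_eq_zero {n : ℕ} {c : A} (hc : c ∈ I ^ n) {k : ℕ} (h : a ^ k * c = 0) : frac I a ha n c hc = 0 := by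
  apply val_injective
  rw [val_frac, val_zero, ← Localization.mk_zero 1, Localization.mk_eq_mk_iff, Localization.r_iff_exists]
  refine ⟨⟨mon I 1 a ha ^ k, k, rfl⟩, ?_⟩
  simp only [OneMemClass.coe_one, one_mul, mul_zero]
  rw [mon_pow, mon_mul]
  exact Subtype.ext (by show Polynomial.monomial (k + n) (a ^ k * c) = 0; rw [h, map_zero])

theorem of_frac_eq_zero {n : ℕ} {c : A} (hc : c ∈ I ^ n) (h : frac I a ha n c hc = 0) : ∃ k, a ^ k * c = 0 := by
  have h' := congrArg HomogeneousLocalization.val h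
  rw [val_frac, val_zero, ← Localization.mk_zero 1, Localization.mk_eq_mk_iff, Localization.r_iff_exists] at h'
  obtain ⟨⟨_, k, rfl⟩, hk⟩ := h'
  simp only [OneMemClass.coe_one, one_mul, mul_zero] at hk
  refine ⟨k, ?_⟩
  rw [mon_pow, mon_mul] at hk
  have := congrArg (fun z : reesAlgebra I => (z : Polynomial A).coeff (k + n)) hk
  simpa [mon] using this

theorem chartHom_mul_frac (r : A) (n : ℕ) (c : A) (hc : c ∈ I ^ n) :
    chartHom I a ha r * frac I a ha n c hc = frac I a ha n (r * c) (Ideal.mul_mem_left _ _ hc) := by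
  rw [chartHom_apply, frac_mul]
  exact frac_eq_frac I a ha _ _ (by rw [zero_add])

theorem chartHom_nonZeroDivisor : chartHom I a ha a ∈ nonZeroDivisors (Chart I a ha) := by
  have key : ∀ z, chartHom I a ha a * z = 0 → z = 0 := by
    intro z hz
    obtain ⟨n, c, hc, rfl⟩ := frac_surjective I a ha z
    rw [chartHom_mul_frac] at hz
    obtain ⟨k, hk⟩ := of_frac_eq_zero I a ha _ hz
    exact frac_eq_zero I a ha hc (k := k + 1) (by rw [pow_succ, mul_assoc, hk])
  exact ⟨key, fun z hz => key z ((mul_comm (chartHom I a ha a) z).trans hz)⟩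

theorem chartHom_eq (x : A) (hx : x ∈ I ^ 1) : chartHom I a ha x = chartHom I a ha a * frac I a ha 1 x hx := by
  rw [chartHom_mul_frac, chartHom_apply]
  exact frac_eq_frac I a ha _ _ (by ring)

theorem map_ideal : I.map (chartHom I a ha) = Ideal.span {chartHom I a ha a} := by
  refine le_antisymm (Ideal.map_le_iff_le_comap.2 fun x hx => ?_)
    ((Ideal.span_singleton_le_iff_mem _).2 (Ideal.mem_map_of_mem _ (by simpa using ha)))
  rw [Ideal.mem_comap, chartHom_eq I a ha x (by simpa using hx)]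
  exact Ideal.mul_mem_right _ _ (Ideal.mem_span_singleton_self _)

theorem pow_mul_frac (n : ℕ) (c : A) (hc : c ∈ I ^ n) :
    chartHom I a ha a ^ n * frac I a ha n c hc = chartHom I a ha c := by
  rw [show chartHom I a ha a ^ n = chartHom I a ha (a ^ n) from (map_pow (chartHom I a ha) a n).symm, chartHom_mul_frac,
    chartHom_apply]
  exact frac_eq_frac I a ha _ _ (by ring)

variable {R : Type u} [CommRing R]

/-- maps out of the chart are determined on the base -/
theorem chart_hom_ext {ψ₁ ψ₂ : Chart I a ha →+* R} (h : ψ₁.comp (chartHom I a ha) = ψ₂.comp (chartHom I a ha))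
    (hnzd : ψ₁ (chartHom I a ha a) ∈ nonZeroDivisors R) : ψ₁ = ψ₂ := by
  refine RingHom.ext fun z => ?_
  obtain ⟨n, c, hc, rfl⟩ := frac_surjective I a ha z
  have h1 := congrArg ψ₁ (pow_mul_frac I a ha n c hc)
  have h2 := congrArg ψ₂ (pow_mul_frac I a ha n c hc)
  have e : ∀ x, ψ₁ (chartHom I a ha x) = ψ₂ (chartHom I a ha x) := fun x => congrArg (fun g : A →+* R => g x) h
  have hp1 := map_pow ψ₁ (chartHom I a ha a) n
  have hp2 := map_pow ψ₂ (chartHom I a ha a) n
  replace h1 : ψ₁ (chartHom I a ha a) ^ n * ψ₁ (frac I a ha n c hc) = ψ₁ (chartHom I a ha c) :=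
    ((congrArg (· * ψ₁ (frac I a ha n c hc)) hp1).symm.trans (map_mul ψ₁ _ _).symm).trans h1
  replace h2 : ψ₂ (chartHom I a ha a) ^ n * ψ₂ (frac I a ha n c hc) = ψ₂ (chartHom I a ha c) :=
    ((congrArg (· * ψ₂ (frac I a ha n c hc)) hp2).symm.trans (map_mul ψ₂ _ _).symm).trans h2
  rw [← e, ← e, ← h1] at h2
  exact ((mul_cancel_left_mem_nonZeroDivisors (pow_mem hnzd n)).1 h2).symm

/-- the universal property of the chart -/
theorem exists_chart_lift (φ : A →+* R) (hnzd : φ a ∈ nonZeroDivisors R) (hI : ∀ x ∈ I, φ a ∣ φ x) :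
    ∃ ψ : Chart I a ha →+* R, ψ.comp (chartHom I a ha) = φ := by
  let L := Localization.Away (φ a)
  let θ : reesAlgebra I →+* L :=
    (Polynomial.eval₂RingHom ((algebraMap R L).comp φ) 1).comp (reesAlgebra I).val.toRingHom
  have hθ : ∀ (n : ℕ) (c : A) (hc : c ∈ I ^ n), θ (mon I n c hc) = algebraMap R L (φ c) := fun n c hc => by
    show Polynomial.eval₂ _ _ (Polynomial.monomial n c) = _
    simp
  have hu : IsUnit (θ (mon I 1 a ha)) := by
    rw [hθ]; exact IsLocalization.Away.algebraMap_isUnit (φ a)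
  let χ : Chart I a ha →+* L :=
    (IsLocalization.Away.lift (S := Localization.Away (mon I 1 a ha)) (mon I 1 a ha) hu).comp
      (algebraMap (Chart I a ha) (Localization.Away (mon I 1 a ha)))
  have hpow : ∀ (n : ℕ) (c : A), c ∈ I ^ n → φ a ^ n ∣ φ c := by
    intro n c hc
    have : (I ^ n).map φ ≤ Ideal.span {φ a ^ n} := by
      rw [Ideal.map_pow, ← Ideal.span_singleton_pow]
      refine Ideal.pow_right_mono ?_ n
      exact Ideal.map_le_iff_le_comap.2 fun x hx => Ideal.mem_comap.2 (Ideal.mem_span_singleton.2 (hI x hx))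
    exact Ideal.mem_span_singleton.1 (this (Ideal.mem_map_of_mem φ hc))
  have hinj : Function.Injective (algebraMap R L) :=
    IsLocalization.injective L (Submonoid.powers_le.2 hnzd)
  have hχ : ∀ (n : ℕ) (c : A) (hc : c ∈ I ^ n),
      algebraMap R L (φ a) ^ n * χ (frac I a ha n c hc) = algebraMap R L (φ c) := by
    intro n c hc
    show _ * IsLocalization.Away.lift _ hu (frac I a ha n c hc).val = _
    rw [val_frac, ← hθ 1 a ha, ← hθ n c hc, ← map_pow, ← IsLocalization.Away.lift_eq (S := Localization.Away (mon I 1 a ha)) _ hu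
      (mon I 1 a ha ^ n), ← map_mul, ← Localization.mk_one_eq_algebraMap, Localization.mk_mul]
    rw [← IsLocalization.Away.lift_eq (S := Localization.Away (mon I 1 a ha)) _ hu (mon I n c hc),
      ← Localization.mk_one_eq_algebraMap]
    congr 1
    rw [Localization.mk_eq_mk_iff, Localization.r_iff_exists]
    exact ⟨1, by simp⟩
  have hrange : ∀ z, χ z ∈ (algebraMap R L).range := by
    intro z
    obtain ⟨n, c, hc, rfl⟩ := frac_surjective I a ha z
    obtain ⟨r, hr⟩ := hpow n c hc
    refine ⟨r, ((IsLocalization.Away.algebraMap_isUnit (φ a)).pow n).mul_left_cancel ?_⟩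
    rw [hχ, hr, map_mul, map_pow]
  refine ⟨((RingEquiv.ofLeftInverse (Function.leftInverse_invFun hinj)).symm.toRingHom).comp (χ.codRestrict _ hrange),
    RingHom.ext fun x => hinj ?_⟩
  rw [RingHom.comp_apply, RingHom.comp_apply]
  have h1 := hχ 0 x (by simp)
  rw [pow_zero, one_mul, ← chartHom_apply] at h1
  refine Eq.trans ?_ h1
  exact congrArg Subtype.val ((RingEquiv.ofLeftInverse (Function.leftInverse_invFun hinj)).apply_symm_apply _)

end Groth.L13.BU
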